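/-
Abelian varieties over a finite field with Frobenius killed by a polynomial.
-/
import Groth.Agent.L26.AV.FrobEnd
import Groth.Agent.L26.AV.Image
import Groth.Agent.L26.Poincare.Reducibility
import Groth.Agent.L08.AbelianGrp
import Groth.Agent.L08.Albanese.EtaleDescent
import Groth.Agent.L08.Albanese.ChowImage

/-!
# Abelian varieties over a finite field with Frobenius killed by a fixed polynomial

The class is closed under products, subvarieties and quotients.
-/

set_option autoImplicit false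
set_option linter.style.haveILetI false
set_option linter.unusedSectionVars false
set_option backward.isDefEq.respectTransparency.types false

universe u

open CategoryTheory CategoryTheory.Limits MonoidalCategory CartesianMonoidalCategory AlgebraicGeometry
open scoped MonObj

noncomputable section

namespace Groth.Agent.AV.Cogen

open FrobPoints (IsFrob)

variable {k : Type u} [Field k] [Finite k]

/-- The Frobenius of a scheme over the finite field. -/
def IsFr {Y : Over (Spec (CommRingCat.of k))} (π : Y ⟶ Y) : Prop := IsFrob π.left (Nat.card k)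

theorem isFr_of {Y : Over (Spec (CommRingCat.of k))} {π : Y ⟶ Y} (hb : π.left.base = 𝟙 _)
    (hle : ∀ U : Y.left.Opens, U ≤ π.left ⁻¹ᵁ U)
    (happ : ∀ (U : Y.left.Opens) (s : Γ(Y.left, U)), (π.left.appLE U U (hle U)).hom s = s ^ Nat.card k) : IsFr π :=
  ⟨hb, fun U _ s => happ U s⟩

theorem isFrob_unique {Y : Scheme.{u}} {f g : Y ⟶ Y} {Q : ℕ} (hf : IsFrob f Q) (hg : IsFrob g Q) : f = g := by
  refine Y.affineCover.hom_ext _ _ fun i => ?_
  let U := (Y.affineCover.f i).opensRange
  have hU : IsAffineOpen U := isAffineOpen_opensRange _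
  haveI : IsAffine U.toScheme := hU
  have happ : f.appLE U U (hf.le U) = g.appLE U U (hg.le U) := by
    ext s
    rw [hf.2, hg.2]
  have h : hU.fromSpec ≫ f = hU.fromSpec ≫ g := by
    rw [← hU.SpecMap_appLE_fromSpec f hU (hf.le U), ← hU.SpecMap_appLE_fromSpec g hU (hg.le U), happ]
  have h' : U.ι ≫ f = U.ι ≫ g := by
    rw [← cancel_epi hU.isoSpec.inv]
    rw [← Category.assoc, ← Category.assoc]
    exact h
  rw [← (Y.affineCover.f i).isoOpensRange_hom_ι, Category.assoc, Category.assoc, h']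

theorem IsFr.eq {Y : Over (Spec (CommRingCat.of k))} {π π' : Y ⟶ Y} (h : IsFr π) (h' : IsFr π') : π = π' :=
  Over.OverMorphism.ext (isFrob_unique h h')

/-- The Frobenius commutes with every morphism. -/
theorem IsFr.comm {Y Z : Over (Spec (CommRingCat.of k))} {πY : Y ⟶ Y} {πZ : Z ⟶ Z} (hY : IsFr πY) (hZ : IsFr πZ)
    (φ : Y ⟶ Z) : πY ≫ φ = φ ≫ πZ := by
  letI := Fintype.ofFinite k
  let p := ringChar k
  haveI : Fact p.Prime := ⟨CharP.char_is_prime k p⟩
  obtain ⟨n, -, hn⟩ := FiniteField.card k p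
  rw [← Nat.card_eq_fintype_card] at hn
  have key : ∀ (T : Over (Spec (CommRingCat.of k))) (π : T ⟶ T), IsFr π → π = FrobEnd.frobHom p hn T := fun T π h =>
    h.eq (show IsFrob _ _ from (congrArg (IsFrob _) hn).mpr (FrobEnd.isFrob_iter p T.left n))
  rw [key Y πY hY, key Z πZ hZ, FrobEnd.frobHom_comp]

variable (P : Polynomial ℤ)

section Class

variable (Y : Over (Spec (CommRingCat.of k))) [GrpObj Y] [IsCommMonObj Y]

/-- The Frobenius is killed by the polynomial. -/
def InP : Prop :=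
  ∀ (π : Y ⟶ Y) [IsMonHom π], IsFr π → Polynomial.eval₂ (Int.castRingHom (EndAV.End Y)) (EndAV.End.of π) P = 0

variable {P Y}

theorem inP_of {π : Y ⟶ Y} [IsMonHom π] (hπ : IsFr π)
    (h : Polynomial.eval₂ (Int.castRingHom (EndAV.End Y)) (EndAV.End.of π) P = 0) : InP P Y := by
  intro π' _ hπ'
  obtain rfl := hπ.eq hπ'
  exact h

end Class

theorem exists_fr (Y : Over (Spec (CommRingCat.of k))) [GrpObj Y] :
    ∃ (π : Y ⟶ Y) (_ : IsMonHom π) (hle : ∀ U : Y.left.Opens, U ≤ π.left ⁻¹ᵁ U),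
      π.left.base = 𝟙 _ ∧ (∀ (U : Y.left.Opens) (s : Γ(Y.left, U)),
        (π.left.appLE U U (hle U)).hom s = s ^ Nat.card k) ∧ IsFr π := by
  obtain ⟨π, hm, hle, hb, happ⟩ := FrobEnd.exists_frobenius Y
  exact ⟨π, hm, hle, hb, happ, isFr_of hb hle happ⟩

section Maps

/-- An endomorphism as a homomorphism. -/
abbrev asHom {X : Over (Spec (CommRingCat.of k))} [GrpObj X] [IsCommMonObj X] (e : EndAV.End X) : EndAV.Hom X X := e

variable {X Y : Over (Spec (CommRingCat.of k))} [GrpObj X] [IsCommMonObj X] [GrpObj Y] [IsCommMonObj Y]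

/-- A polynomial in compatible endomorphisms commutes with the homomorphism. -/
theorem eval_comm (a : EndAV.End X) (b : EndAV.End Y) (q : EndAV.Hom X Y) (h : asHom a ≫ q = q ≫ asHom b) :
    asHom (Polynomial.eval₂ (Int.castRingHom (EndAV.End X)) a P) ≫ q =
      q ≫ asHom (Polynomial.eval₂ (Int.castRingHom (EndAV.End Y)) b P) := by
  induction P using Polynomial.induction_on with
  | C n =>
    rw [Polynomial.eval₂_C, Polynomial.eval₂_C]
    show CategoryStruct.comp ((n : ℤ) : EndAV.End X) q = q ≫ ((n : ℤ) : EndAV.End Y)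
    rw [← zsmul_one n, ← zsmul_one n]
    show CategoryStruct.comp (n • 𝟙 (CommGrp.mk X)) q = q ≫ (n • 𝟙 (CommGrp.mk Y))
    rw [Preadditive.zsmul_comp, Preadditive.comp_zsmul, Category.id_comp, Category.comp_id]
  | add p p' hp hp' =>
    rw [Polynomial.eval₂_add, Polynomial.eval₂_add]
    exact (Preadditive.add_comp _ _ _ _ _ _).trans ((congrArg₂ (· + ·) hp hp').trans (Preadditive.comp_add _ _ _ _ _ _).symm)
  | monomial n c hn =>
    rw [pow_succ, ← mul_assoc, Polynomial.eval₂_mul_X, Polynomial.eval₂_mul_X]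
    show CategoryStruct.comp (a ≫ _) q = q ≫ (b ≫ _)
    rw [Category.assoc, hn, reassoc_of% h]

/-- A quotient is again killed. -/
theorem InP.of_epi (q : EndAV.Hom X Y) [Epi q.toHom] (hX : InP P X) : InP P Y := by
  intro π _ hπ
  obtain ⟨πX, _, _, -, -, hπX⟩ := exists_fr X
  have hc : asHom (EndAV.End.of πX) ≫ q = q ≫ asHom (EndAV.End.of π) :=
    EndAV.Hom.ext (IsFr.comm hπX hπ q.toHom)
  have h := eval_comm P _ _ q hc
  rw [hX πX hπX] at h
  refine EndAV.End.ext ?_
  rw [EndAV.End.toHom_zero, ← cancel_epi q.toHom, MonObj.comp_one]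
  have := congrArg EndAV.Hom.toHom h
  rw [EndAV.Hom.toHom_comp, EndAV.Hom.toHom_comp] at this
  exact this.symm.trans (MonObj.one_comp q.toHom)

/-- A subobject is again killed. -/
theorem InP.of_mono (q : EndAV.Hom X Y) [Mono q.toHom] (hY : InP P Y) : InP P X := by
  intro π _ hπ
  obtain ⟨πY, _, _, -, -, hπY⟩ := exists_fr Y
  have hc : asHom (EndAV.End.of π) ≫ q = q ≫ asHom (EndAV.End.of πY) :=
    EndAV.Hom.ext (IsFr.comm hπ hπY q.toHom)
  have h := eval_comm P _ _ q hc
  rw [hY πY hπY] at h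
  refine EndAV.End.ext ?_
  rw [EndAV.End.toHom_zero, ← cancel_mono q.toHom, MonObj.one_comp]
  have := congrArg EndAV.Hom.toHom h
  rw [EndAV.Hom.toHom_comp, EndAV.Hom.toHom_comp] at this
  exact this.trans (MonObj.comp_one q.toHom)

end Maps

variable {P}

/-- Composition of points with a finite sum of homomorphisms. -/
theorem comp_sum {T X Y : Over (Spec (CommRingCat.of k))} [GrpObj X] [IsCommMonObj X] [GrpObj Y] [IsCommMonObj Y]
    {ι' : Type*} (s : Finset ι') (f : ι' → EndAV.Hom X Y) (x : T ⟶ X) :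
    x ≫ (∑ i ∈ s, f i).toHom = ∏ i ∈ s, x ≫ (f i).toHom := by
  classical
  induction s using Finset.induction with
  | empty => rw [Finset.sum_empty, Finset.prod_empty, EndAV.Hom.toHom_zero, MonObj.comp_one]
  | insert a s ha h =>
    rw [Finset.sum_insert ha, Finset.prod_insert ha, EndAV.Hom.toHom_add, MonObj.comp_mul, h]

/-- Powers of a member of the class. -/
theorem exists_pow (A : Over (Spec (CommRingCat.of k))) [GrpObj A] [IsCommMonObj A] [IsProper A.hom]
    [GeometricallyIntegral A.hom] (hA : InP P A) :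
    ∀ n : ℕ, ∃ (B : Over (Spec (CommRingCat.of k))) (_ : GrpObj B) (_ : IsCommMonObj B) (_ : IsProper B.hom)
      (_ : GeometricallyIntegral B.hom) (pr : Fin n → EndAV.Hom B A) (inj : Fin n → EndAV.Hom A B),
      InP P B ∧ (∀ i, inj i ≫ pr i = 𝟙 (CommGrp.mk A)) ∧ (∀ i j, i ≠ j → inj i ≫ pr j = 0) ∧
      ∑ i, pr i ≫ inj i = 𝟙 (CommGrp.mk B) := by
  intro n
  induction n with
  | zero =>
    refine ⟨𝟙_ _, inferInstance, inferInstance, inferInstanceAs (IsProper (𝟙 _)), ?_, Fin.elim0, Fin.elim0, ?_,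
      fun i => i.elim0, fun i => i.elim0, ?_⟩
    · refine ⟨fun K _ y Z fst' snd' h => ?_⟩
      haveI : IsIso (𝟙_ (Over (Spec (CommRingCat.of k)))).hom := inferInstanceAs (IsIso (𝟙 _))
      haveI : IsIso snd' := h.isIso_snd_of_isIso
      haveI : Nonempty Z := ⟨(inv snd') (Nonempty.some inferInstance)⟩
      exact isIntegral_of_isOpenImmersion snd'
    · intro π _ _
      exact EndAV.End.ext (toUnit_unique _ _)
    · exact EndAV.Hom.ext (toUnit_unique _ _)
  | succ n ih =>
    obtain ⟨B, _, _, _, _, pr, inj, hB, h1, h2, h3⟩ := ih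
    obtain ⟨hp, hg⟩ := Groth.L08.Albanese.geometricallyIntegral_tensor A B
    haveI := hp
    haveI := hg
    haveI : IsCommMonObj (A ⊗ B) := isCommMonObj_of_isProper_of_geometricallyIntegral (A ⊗ B)
    let p1 : EndAV.Hom (A ⊗ B) A := EndAV.Hom.of (fst A B)
    let p2 : EndAV.Hom (A ⊗ B) B := EndAV.Hom.of (snd A B)
    let i1 : EndAV.Hom A (A ⊗ B) := EndAV.Hom.of (lift (𝟙 A) (0 : EndAV.Hom A B).toHom)
    let i2 : EndAV.Hom B (A ⊗ B) := EndAV.Hom.of (lift (0 : EndAV.Hom B A).toHom (𝟙 B))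
    have a11 : i1 ≫ p1 = 𝟙 (CommGrp.mk A) := EndAV.Hom.ext ((EndAV.Hom.toHom_comp _ _).trans (lift_fst _ _))
    have a22 : i2 ≫ p2 = 𝟙 (CommGrp.mk B) := EndAV.Hom.ext ((EndAV.Hom.toHom_comp _ _).trans (lift_snd _ _))
    have a12 : i1 ≫ p2 = 0 := EndAV.Hom.ext ((EndAV.Hom.toHom_comp _ _).trans (lift_snd _ _))
    have a21 : i2 ≫ p1 = 0 := EndAV.Hom.ext ((EndAV.Hom.toHom_comp _ _).trans (lift_fst _ _))
    have asum : p1 ≫ i1 + p2 ≫ i2 = 𝟙 (CommGrp.mk (A ⊗ B)) := by
      refine EndAV.Hom.ext ?_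
      show (fst A B ≫ lift (𝟙 A) 1) * (snd A B ≫ lift 1 (𝟙 B)) = 𝟙 _
      refine CartesianMonoidalCategory.hom_ext _ _ ?_ ?_
      · rw [MonObj.mul_comp, Category.assoc, Category.assoc, lift_fst, lift_fst, Category.comp_id, MonObj.comp_one,
          _root_.mul_one, Category.id_comp]
      · rw [MonObj.mul_comp, Category.assoc, Category.assoc, lift_snd, lift_snd, Category.comp_id, MonObj.comp_one,
          _root_.one_mul, Category.id_comp]
    refine ⟨A ⊗ B, inferInstance, inferInstance, inferInstance, inferInstance, Fin.cons p1 (fun i => p2 ≫ pr i),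
      Fin.cons i1 (fun i => inj i ≫ i2), ?_, ?_, ?_, ?_⟩
    · intro π _ hπ
      obtain ⟨πA, _, _, -, -, hπA⟩ := exists_fr A
      obtain ⟨πB, _, _, -, -, hπB⟩ := exists_fr B
      have e1 := eval_comm P (EndAV.End.of π) (EndAV.End.of πA) p1 (EndAV.Hom.ext (IsFr.comm hπ hπA p1.toHom))
      have e2 := eval_comm P (EndAV.End.of π) (EndAV.End.of πB) p2 (EndAV.Hom.ext (IsFr.comm hπ hπB p2.toHom))
      rw [hA πA hπA] at e1
      rw [hB πB hπB] at e2
      refine EndAV.End.ext (CartesianMonoidalCategory.hom_ext _ _ ?_ ?_)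
      · refine (congrArg EndAV.Hom.toHom e1).trans ?_
        exact (MonObj.comp_one _).trans (MonObj.one_comp _).symm
      · refine (congrArg EndAV.Hom.toHom e2).trans ?_
        exact (MonObj.comp_one _).trans (MonObj.one_comp _).symm
    · refine Fin.cases ?_ ?_
      · exact a11
      · intro i
        rw [Fin.cons_succ, Fin.cons_succ, Category.assoc, reassoc_of% a22]
        exact h1 i
    · refine Fin.cases (Fin.cases (fun h => absurd rfl h) ?_) (fun i => Fin.cases ?_ ?_)
      · intro j _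
        rw [Fin.cons_zero, Fin.cons_succ, ← Category.assoc, a12, Limits.zero_comp]
      · intro _
        rw [Fin.cons_zero, Fin.cons_succ, Category.assoc, a21, Limits.comp_zero]
      · intro j h
        rw [Fin.cons_succ, Fin.cons_succ, Category.assoc, reassoc_of% a22]
        exact h2 i j (fun e => h (congrArg Fin.succ e))
    · rw [Fin.sum_univ_succ]
      simp only [Fin.cons_zero, Fin.cons_succ]
      have : ∑ i, (p2 ≫ pr i) ≫ inj i ≫ i2 = p2 ≫ i2 := by
        have := congrArg (fun t => p2 ≫ t ≫ i2) h3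
        simpa [Preadditive.sum_comp, Preadditive.comp_sum, Category.assoc] using this
      rw [this, asum]

/-- The quotient by a closed subgroup, in the class. -/
theorem exists_quot {X H : Over (Spec (CommRingCat.of k))} [GrpObj X] [IsCommMonObj X] [IsProper X.hom]
    [GeometricallyIntegral X.hom] [GrpObj H] (i : H ⟶ X) [IsMonHom i] [IsClosedImmersion i.left] (hX : InP P X) :
    ∃ (Q : Over (Spec (CommRingCat.of k))) (_ : GrpObj Q) (_ : IsCommMonObj Q) (_ : IsProper Q.hom)
      (_ : GeometricallyIntegral Q.hom) (q : EndAV.Hom X Q),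
      InP P Q ∧ AlgGrp.IsKernel i q.toHom ∧ Epi q.toHom := by
  obtain ⟨Q, gQ, q, hq, _, _, _, _, _, hc, hker⟩ := Groth.L08.AbelianGrp.exists_quotient i
  letI := gQ
  haveI := hq
  haveI := hc
  obtain ⟨_, _⟩ := Groth.L08.Albanese.abelian_of_cover q
  haveI : Epi q := Groth.L08.GQuot.epi_of_cover q
  haveI : Epi (EndAV.Hom.of q).toHom := ‹Epi q›
  exact ⟨Q, gQ, hc, ‹_›, ‹_›, EndAV.Hom.of q, InP.of_epi P (EndAV.Hom.of q) hX, hker, ‹_›⟩

/-- The image of a homomorphism, in the class. -/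
theorem exists_img {X Y : Over (Spec (CommRingCat.of k))} [GrpObj X] [IsCommMonObj X] [IsProper X.hom]
    [GeometricallyIntegral X.hom] [GrpObj Y] [IsCommMonObj Y] [IsProper Y.hom] (f : EndAV.Hom X Y) (hX : InP P X) :
    ∃ (C : Over (Spec (CommRingCat.of k))) (_ : GrpObj C) (_ : IsCommMonObj C) (_ : IsProper C.hom)
      (_ : GeometricallyIntegral C.hom) (p : EndAV.Hom X C) (j : EndAV.Hom C Y),
      InP P C ∧ p ≫ j = f ∧ Flat p.toHom.left ∧ Surjective p.toHom.left ∧ QuasiCompact p.toHom.left ∧ Epi p.toHom ∧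
        IsClosedImmersion j.toHom.left ∧ Mono j.toHom := by
  obtain ⟨C, gC, j, p, hj, hjc, hCp, hCg, hps, hpj, hpm⟩ := Groth.Agent.AV.exists_image f.toHom
  letI := gC
  haveI := hj
  haveI := hjc
  haveI := hCp
  haveI := hCg
  haveI := hps
  haveI := hpm
  haveI : IsCommMonObj C := isCommMonObj_of_isProper_of_geometricallyIntegral C
  haveI : IsIntegral C.left := GeometricallyIntegral.isIntegral_of_subsingleton C.hom
  haveI : Flat p.left := Groth.L08.FlatHom.flat_of_surjective X C p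
  haveI : QuasiCompact (p.left ≫ C.hom) := by rw [Over.w]; infer_instance
  haveI : QuasiCompact p.left := QuasiCompact.of_comp p.left C.hom
  haveI : Epi (EndAV.Hom.of p).toHom := Over.epi_of_epi_left p
  exact ⟨C, gC, inferInstance, hCp, hCg, EndAV.Hom.of p, EndAV.Hom.of j, InP.of_epi P (EndAV.Hom.of p) hX,
    EndAV.Hom.ext hpj, ‹_›, ‹_›, ‹_›, ‹_›, hjc, Over.mono_of_mono_left j⟩

/-- A homomorphism killing the kernel of a faithfully flat one factors through it. -/
theorem exists_desc {X C Z : Over (Spec (CommRingCat.of k))} [GrpObj X] [IsCommMonObj X] [GrpObj C] [IsCommMonObj C]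
    [IsProper C.hom] [GeometricallyIntegral C.hom] [GrpObj Z] [IsCommMonObj Z] [IsProper Z.hom]
    (p : EndAV.Hom X C) [Flat p.toHom.left] [Surjective p.toHom.left] [QuasiCompact p.toHom.left]
    (f : EndAV.Hom X Z) (h : ∀ (T : Over (Spec (CommRingCat.of k))) (x : T ⟶ X), x ≫ p.toHom = 1 → x ≫ f.toHom = 1) :
    ∃ r : EndAV.Hom C Z, p ≫ r = f := by
  obtain ⟨r, hr, hr1⟩ := Groth.Agent.Poincare.Reducibility.exists_desc_of_kills p.toHom f.toHom h
  haveI : IsMonHom r := Groth.Agent.AV.isMonHom_of_one r hr1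
  exact ⟨EndAV.Hom.of r, EndAV.Hom.ext hr⟩

end Groth.Agent.AV.Cogen
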