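/-
Separation of points and regularity for the class.
-/
import Groth.Agent.L26.Cogen.Basic
import Groth.Agent.S4362
import Groth.Agent.S15651
import Groth.Agent.L26.AV.CharMin
import Mathlib.RingTheory.SimpleModule.Basic

/-!
# Full faithfulness separates points

If homomorphisms into `A` form a fully faithful functor then they separate points.
-/

set_option autoImplicit false
set_option linter.style.haveILetI false
set_option linter.unusedSectionVars false
set_option backward.isDefEq.respectTransparency.types false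

universe u

open CategoryTheory CategoryTheory.Limits MonoidalCategory CartesianMonoidalCategory AlgebraicGeometry
open scoped MonObj TensorProduct

noncomputable section

namespace Groth.Agent.AV.Cogen

variable {k : Type u} [Field k] [Finite k] {P : Polynomial ℤ}

/-- Finitely many homomorphisms have the common kernel of all. -/
theorem exists_finite_kernel (X A : Over (Spec (CommRingCat.of k))) [GrpObj X] [IsCommMonObj X] [IsProper X.hom]
    [GeometricallyIntegral X.hom] [GrpObj A] [IsCommMonObj A] [IsProper A.hom] [GeometricallyIntegral A.hom] :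
    ∃ (n : ℕ) (ψ : Fin n → EndAV.Hom X A), ∀ (T : Over (Spec (CommRingCat.of k))) (d : T ⟶ X),
      (∀ i, d ≫ (ψ i).toHom = 1) → ∀ f : EndAV.Hom X A, d ≫ f.toHom = 1 := by
  classical
  let Ker : EndAV.Hom X A → Over (Spec (CommRingCat.of k)) := fun f => pullback f.toHom η[A]
  let incl : ∀ f, Ker f ⟶ X := fun f => pullback.fst f.toHom η[A]
  have hsq : ∀ f, IsPullback (incl f) (pullback.snd f.toHom η[A]) f.toHom η[A] := fun f =>
    IsPullback.of_hasPullback _ _
  haveI : ∀ f, IsClosedImmersion (incl f).left := fun f => by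
    haveI : IsClosedImmersion (η[A]).left := by
      haveI : IsClosedImmersion ((η[A]).left ≫ A.hom) := by
        rw [Over.w]; exact inferInstanceAs (IsClosedImmersion (𝟙 _))
      exact IsClosedImmersion.of_comp _ A.hom
    exact MorphismProperty.of_isPullback (P := @IsClosedImmersion) ((hsq f).map (Over.forget _)).flip ‹IsClosedImmersion (η[A]).left›
  have hfac : ∀ (f : EndAV.Hom X A) {T : Over (Spec (CommRingCat.of k))} (d : T ⟶ X),
      (incl f).left.ker ≤ d.left.ker ↔ d ≫ f.toHom = 1 := by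
    intro f T d
    constructor
    · intro h
      have e := IsClosedImmersion.lift_fac (incl f).left d.left h
      let z : T ⟶ Ker f := Over.homMk (IsClosedImmersion.lift (incl f).left d.left h) (by
        rw [← Over.w (incl f), ← Category.assoc, e, Over.w])
      have hz : z ≫ incl f = d := Over.OverMorphism.ext e
      rw [← hz, Category.assoc, (hsq f).w, ← Category.assoc, Hom.one_def,
        toUnit_unique (z ≫ pullback.snd f.toHom η[A]) (toUnit _)]
    · intro h
      have hw : d ≫ f.toHom = toUnit T ≫ η[A] := by rw [h, Hom.one_def]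
      rw [← (hsq f).lift_fst d (toUnit T) hw]
      exact Scheme.Hom.le_ker_comp _ _
  haveI : IsLocallyNoetherian X.left := LocallyOfFiniteType.isLocallyNoetherian X.hom
  haveI : CompactSpace ↥X.left := QuasiCompact.compactSpace_of_compactSpace X.hom
  haveI : IsNoetherian X.left := {}
  haveI := Groth.Agent.S4362.result X.left
  let I : Finset (EndAV.Hom X A) → X.left.IdealSheafData := fun s => s.sup fun f => (incl f).left.ker
  obtain ⟨J, ⟨s, rfl⟩, hmax⟩ := WellFounded.has_min (wellFounded_gt (α := X.left.IdealSheafData))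
    (Set.range I) ⟨_, ∅, rfl⟩
  have hall : ∀ f, (incl f).left.ker ≤ I s := by
    intro f
    have h1 : I s ≤ I (insert f s) := Finset.sup_mono (Finset.subset_insert _ _)
    have h2 : (incl f).left.ker ≤ I (insert f s) :=
      Finset.le_sup (f := fun f => (incl f).left.ker) (Finset.mem_insert_self _ _)
    rcases h1.eq_or_lt with h3 | h3
    · exact h2.trans h3.ge
    · exact absurd h3 (hmax _ ⟨_, rfl⟩)
  refine ⟨s.card, fun i => (s.equivFin.symm i).1, fun T d hd f => (hfac f _).1 ((hall f).trans ?_)⟩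
  refine Finset.sup_le fun g hg => (hfac g _).2 ?_
  have h := hd (s.equivFin ⟨g, hg⟩)
  simpa only [Equiv.symm_apply_apply] using h

/-- Homomorphisms to `A` are fully faithful on the class. -/
def FF (P : Polynomial ℤ) (A : Over (Spec (CommRingCat.of k))) [GrpObj A] [IsCommMonObj A] : Prop :=
  ∀ (X Y : Over (Spec (CommRingCat.of k))) [GrpObj X] [IsCommMonObj X] [IsProper X.hom] [GeometricallyIntegral X.hom]
    [GrpObj Y] [IsCommMonObj Y] [IsProper Y.hom] [GeometricallyIntegral Y.hom], InP P X → InP P Y →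
    (∀ f g : EndAV.Hom X Y, (∀ φ : EndAV.Hom Y A, f ≫ φ = g ≫ φ) → f = g) ∧
      (∀ g : EndAV.Hom Y A →+ EndAV.Hom X A,
        (∀ (φ : EndAV.Hom Y A) (s : EndAV.Hom A A), g (φ ≫ s) = g φ ≫ s) →
          ∃ f : EndAV.Hom X Y, ∀ φ : EndAV.Hom Y A, g φ = f ≫ φ)

section Power

variable {A B X : Over (Spec (CommRingCat.of k))} [GrpObj A] [IsCommMonObj A] [GrpObj B] [IsCommMonObj B]
  [GrpObj X] [IsCommMonObj X] {n : ℕ} (pr : Fin n → EndAV.Hom B A) (inj : Fin n → EndAV.Hom A B)
  (h1 : ∀ i, inj i ≫ pr i = 𝟙 (CommGrp.mk A)) (h2 : ∀ i j, i ≠ j → inj i ≫ pr j = 0)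
include h1 h2

/-- The components of a tuple. -/
theorem sum_inj_pr (f : Fin n → EndAV.Hom X A) (j : Fin n) : (∑ i, f i ≫ inj i) ≫ pr j = f j := by
  rw [Preadditive.sum_comp, Finset.sum_eq_single j]
  · rw [Category.assoc, h1, Category.comp_id]
  · intro i _ hi
    rw [Category.assoc, h2 i j hi, Limits.comp_zero]
  · exact fun h => absurd (Finset.mem_univ j) h

/-- A point killed by the components is killed by the tuple. -/
theorem comp_tuple_eq_one {T : Over (Spec (CommRingCat.of k))} (f : Fin n → EndAV.Hom X A) (x : T ⟶ X) :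
    x ≫ EndAV.Hom.toHom (∑ i, f i ≫ inj i) = 1 ↔ ∀ i, x ≫ (f i).toHom = 1 := by
  refine ⟨fun h i => ?_, fun h => ?_⟩
  · rw [← sum_inj_pr pr inj h1 h2 f i, EndAV.Hom.toHom_comp, ← Category.assoc, h, MonObj.one_comp]
  · rw [comp_sum, Finset.prod_eq_one]
    intro i _
    rw [EndAV.Hom.toHom_comp, ← Category.assoc, h i, MonObj.one_comp]

end Power

/-- Full faithfulness implies that homomorphisms separate points. -/
theorem separation (A : Over (Spec (CommRingCat.of k))) [GrpObj A] [IsCommMonObj A] [IsProper A.hom]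
    [GeometricallyIntegral A.hom] (hA : InP P A) (hff : FF P A)
    (Y : Over (Spec (CommRingCat.of k))) [GrpObj Y] [IsCommMonObj Y] [IsProper Y.hom] [GeometricallyIntegral Y.hom]
    (hY : InP P Y) (T : Over (Spec (CommRingCat.of k))) (y : T ⟶ Y) (hy : ∀ f : EndAV.Hom Y A, y ≫ f.toHom = 1) :
    y = 1 := by
  obtain ⟨n, ψ, hψ⟩ := exists_finite_kernel Y A
  obtain ⟨B, _, _, _, _, pr, inj, -, h1, h2, -⟩ := exists_pow A hA n
  obtain ⟨C, _, _, _, _, p, j, hC, hpj, _, _, _, _, _, _⟩ := exists_img (∑ i, ψ i ≫ inj i) hY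
  have hdesc : ∀ φ : EndAV.Hom Y A, ∃ r : EndAV.Hom C A, p ≫ r = φ := fun φ =>
    exists_desc p φ fun T x hx => hψ T x ((comp_tuple_eq_one pr inj h1 h2 ψ x).1
      (by rw [← hpj, EndAV.Hom.toHom_comp, ← Category.assoc, hx, MonObj.one_comp])) φ
  choose r hr using hdesc
  have hcan : ∀ a b : EndAV.Hom C A, p ≫ a = p ≫ b → a = b := fun a b h =>
    EndAV.Hom.ext ((cancel_epi p.toHom).1 (by rw [← EndAV.Hom.toHom_comp, ← EndAV.Hom.toHom_comp, h]))
  let g : EndAV.Hom Y A →+ EndAV.Hom C A := AddMonoidHom.mk' r fun a b =>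
    hcan _ _ (by rw [Preadditive.comp_add, hr, hr, hr])
  obtain ⟨f, hf⟩ := (hff C Y hC hY).2 g fun φ s => hcan _ _ (by
    show p ≫ r (φ ≫ s) = p ≫ r φ ≫ s
    rw [hr, reassoc_of% hr])
  have hpf : p ≫ f = 𝟙 (CommGrp.mk Y) := (hff Y Y hY hY).1 _ _ fun φ => by
    rw [Category.assoc, ← hf φ, Category.id_comp]
    exact hr φ
  have h : y ≫ EndAV.Hom.toHom (∑ i, ψ i ≫ inj i) = 1 := (comp_tuple_eq_one pr inj h1 h2 ψ y).2 fun i => hy _
  rw [← hpj, EndAV.Hom.toHom_comp, ← Category.assoc] at h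
  have hp1 : y ≫ p.toHom = 1 := (cancel_mono j.toHom).1 (by rw [h, MonObj.one_comp])
  calc y = y ≫ EndAV.Hom.toHom (p ≫ f) := by rw [hpf]; exact (Category.comp_id y).symm
    _ = 1 := by rw [EndAV.Hom.toHom_comp, ← Category.assoc, hp1, MonObj.one_comp]

/-- Endomorphisms are regular up to multiples. -/
theorem exists_regular (B : Over (Spec (CommRingCat.of k))) [GrpObj B] [IsCommMonObj B] [IsProper B.hom]
    [GeometricallyIntegral B.hom] (x : EndAV.End B) : ∃ (N : ℤ) (y : EndAV.End B), N ≠ 0 ∧ x * y * x = N • x := by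
  haveI := Groth.Agent.S15651.result k B
  obtain ⟨e, he, hI⟩ := IsSemisimpleRing.ideal_eq_span_idempotent (Ideal.span {EndAV.toEnd0 x})
  obtain ⟨a, ha⟩ := Ideal.mem_span_singleton'.1 (hI.ge (Ideal.mem_span_singleton_self e))
  obtain ⟨b, hb⟩ := Ideal.mem_span_singleton'.1 (hI.le (Ideal.mem_span_singleton_self (EndAV.toEnd0 x)))
  have hreg : EndAV.toEnd0 x * a * EndAV.toEnd0 x = EndAV.toEnd0 x := by
    rw [mul_assoc, ha, ← hb, mul_assoc, he]
  obtain ⟨N, y, hN, hy⟩ : ∃ (N : ℤ) (y : EndAV.End B), N ≠ 0 ∧ N • a = EndAV.toEnd0 y := by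
    clear ha hreg
    induction a using TensorProduct.induction_on with
    | zero => exact ⟨1, 0, one_ne_zero, by rw [smul_zero, map_zero]⟩
    | tmul q c =>
      refine ⟨q.den, q.num • c, by exact_mod_cast q.den_nz, ?_⟩
      rw [EndAV.toEnd0_apply, TensorProduct.smul_tmul', ← TensorProduct.smul_tmul]
      congr 1
      rw [zsmul_eq_mul, zsmul_eq_mul, Int.cast_natCast, _root_.mul_one, _root_.mul_comm, Rat.mul_den_eq_num]
    | add u v hu hv =>
      obtain ⟨n, c, hn, hc⟩ := hu
      obtain ⟨m, d, hm, hd⟩ := hv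
      refine ⟨n * m, m • c + n • d, mul_ne_zero hn hm, ?_⟩
      rw [map_add, map_zsmul, map_zsmul, ← hc, ← hd, smul_add, smul_smul, smul_smul, _root_.mul_comm m n]
  refine ⟨N, y, hN, CharMin.toEnd0_injective ?_⟩
  rw [map_mul, map_mul, map_zsmul, ← hy, mul_smul_comm, smul_mul_assoc, hreg]

/-- Homomorphisms are regular up to multiples. -/
theorem exists_regular_hom {X Y : Over (Spec (CommRingCat.of k))} [GrpObj X] [IsCommMonObj X] [IsProper X.hom]
    [GeometricallyIntegral X.hom] [GrpObj Y] [IsCommMonObj Y] [IsProper Y.hom] [GeometricallyIntegral Y.hom]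
    (f : EndAV.Hom X Y) : ∃ (N : ℤ) (g : EndAV.Hom Y X), N ≠ 0 ∧ f ≫ g ≫ f = N • f := by
  obtain ⟨hp, hg⟩ := Groth.L08.Albanese.geometricallyIntegral_tensor X Y
  haveI := hp
  haveI := hg
  haveI : IsCommMonObj (X ⊗ Y) := isCommMonObj_of_isProper_of_geometricallyIntegral (X ⊗ Y)
  let p1 : EndAV.Hom (X ⊗ Y) X := EndAV.Hom.of (fst X Y)
  let p2 : EndAV.Hom (X ⊗ Y) Y := EndAV.Hom.of (snd X Y)
  let i1 : EndAV.Hom X (X ⊗ Y) := EndAV.Hom.of (lift (𝟙 X) (0 : EndAV.Hom X Y).toHom)
  let i2 : EndAV.Hom Y (X ⊗ Y) := EndAV.Hom.of (lift (0 : EndAV.Hom Y X).toHom (𝟙 Y))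
  have a11 : i1 ≫ p1 = 𝟙 (CommGrp.mk X) := EndAV.Hom.ext ((EndAV.Hom.toHom_comp _ _).trans (lift_fst _ _))
  have a22 : i2 ≫ p2 = 𝟙 (CommGrp.mk Y) := EndAV.Hom.ext ((EndAV.Hom.toHom_comp _ _).trans (lift_snd _ _))
  let F : EndAV.Hom (X ⊗ Y) (X ⊗ Y) := p1 ≫ f ≫ i2
  obtain ⟨N, y, hN, hy⟩ := exists_regular (X ⊗ Y) F
  refine ⟨N, i2 ≫ asHom y ≫ p1, hN, ?_⟩
  have h : F ≫ asHom y ≫ F = N • F := hy
  have h' := congrArg (fun t => i1 ≫ t ≫ p2) h
  simpa [F, Category.assoc, Preadditive.comp_zsmul, Preadditive.zsmul_comp, reassoc_of% a11, a22] using h'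

end Groth.Agent.AV.Cogen
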